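import Mathlib

/-!
# The rank of a matrix does not change in a larger field
-/

set_option autoImplicit false
set_option linter.style.haveILetI false

namespace CfsgLib.DefectRank

variable {K L : Type*} [Field K] [Field L] (φ : K →+* L) {m n : Type*} [Fintype m] [Fintype n]
  [DecidableEq m] [DecidableEq n]

/-- The rank is kept by a homomorphism of fields. -/
theorem rank_map_eq (A : Matrix m n K) : (A.map φ).rank = A.rank := by
  set r := A.rank
  let e : LinearMap.range A.mulVecLin ≃ₗ[K] (Fin r → K) := (Module.finBasis K _).equivFun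
  let f : (n → K) →ₗ[K] (Fin r → K) := e.toLinearMap ∘ₗ A.mulVecLin.rangeRestrict
  have hf : Function.Surjective f :=
    e.surjective.comp A.mulVecLin.surjective_rangeRestrict
  obtain ⟨Y, hY⟩ := f.exists_rightInverse_of_surjective (LinearMap.range_eq_top.2 hf)
  obtain ⟨X, hX⟩ := LinearMap.exists_extend e.toLinearMap
  let U : (Fin r → K) →ₗ[K] (m → K) := (LinearMap.range A.mulVecLin).subtype ∘ₗ e.symm.toLinearMap
  have hA : LinearMap.toMatrix' A.mulVecLin = A := LinearMap.toMatrix'_toLin' A
  have h1 : LinearMap.toMatrix' U * LinearMap.toMatrix' f = A := by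
    rw [← LinearMap.toMatrix'_comp]
    conv_rhs => rw [← hA]
    congr 1
    refine LinearMap.ext fun v => ?_
    simp [U, f]
  have h2 : LinearMap.toMatrix' X * A * LinearMap.toMatrix' Y = 1 := by
    conv_lhs => rw [← hA]
    rw [← LinearMap.toMatrix'_comp, ← LinearMap.toMatrix'_comp, ← LinearMap.toMatrix'_id]
    congr 1
    rw [← hY]
    refine LinearMap.ext fun v => ?_
    have := LinearMap.congr_fun hX (A.mulVecLin.rangeRestrict (Y v))
    simpa [f] using this
  refine le_antisymm ?_ ?_
  · rw [← h1, Matrix.map_mul]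
    refine (Matrix.rank_mul_le_left _ _).trans ?_
    exact (Matrix.rank_le_card_width _).trans_eq (Fintype.card_fin r)
  · have h3 := congrArg (fun M : Matrix (Fin r) (Fin r) K => M.map φ) h2
    simp only [Matrix.map_mul, Matrix.map_one φ (map_zero φ) (map_one φ)] at h3
    have h4 : (1 : Matrix (Fin r) (Fin r) L).rank ≤ (A.map φ).rank := by
      rw [← h3]
      exact (Matrix.rank_mul_le_left _ _).trans (Matrix.rank_mul_le_right _ _)
    rwa [Matrix.rank_one, Fintype.card_fin] at h4

omit [Fintype n] [DecidableEq n] in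
/-- A product through invertible middle factors of full rank. -/
theorem rank_eq_of_inverses {k : Type*} [Fintype k] [DecidableEq k] {n' : Type*} [Fintype n']
    [DecidableEq n'] (W : Matrix m k L) (V : Matrix k n' L) (c : k → L) (hc : ∀ b, c b ≠ 0)
    (P : Matrix k m L) (Q : Matrix n' k L) (hP : P * W = 1) (hQ : V * Q = 1) :
    (W * Matrix.diagonal c * V).rank = Fintype.card k := by
  refine le_antisymm ((Matrix.rank_mul_le_left _ _).trans (Matrix.rank_le_card_width _)) ?_
  have h : P * (W * Matrix.diagonal c * V) * Q = Matrix.diagonal c := by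
    rw [← Matrix.mul_assoc P, ← Matrix.mul_assoc P, hP, Matrix.one_mul, Matrix.mul_assoc, hQ,
      Matrix.mul_one]
  have hu : IsUnit (Matrix.diagonal c) := by
    rw [Matrix.isUnit_diagonal]
    exact Pi.isUnit_iff.2 fun b => (hc b).isUnit
  rw [← Matrix.rank_of_isUnit _ hu]
  conv_lhs => rw [← h]
  exact (Matrix.rank_mul_le_left _ _).trans (Matrix.rank_mul_le_right _ _)

end CfsgLib.DefectRank
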