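import Cfsg.Agent.Blocks.Height
import Cfsg.Agent.Blocks.Defect
import Cfsg.Agent.Blocks.RegularSupport
import Cfsg.Agent.DefectRank.RankMap
import Cfsg.Agent.S4491

/-!
# Counting blocks with a normal defect group

The pairs of elements of two classes in one right coset of a Sylow subgroup are counted by the
central characters; modulo `M` only blocks with defect group `D` contribute, each with a unit.
-/

set_option autoImplicit false
set_option linter.style.haveILetI false
set_option linter.unusedSectionVars false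

namespace CfsgLib.DefectRank

open Cfsg CfsgLib.Blocks CfsgLib.Characters
open scoped ComplexConjugate

universe u

variable {G : Type u} [Group G] [Fintype G] {p : ℕ} [Fact p.Prime]

/-- The pairs of the two classes in one coset. -/
noncomputable def pairCount (H : Subgroup G) (C C' : ConjClasses G) : ℕ :=
  Nat.card {yz : G × G // yz.1 ∈ C.carrier ∧ yz.2 ∈ C'.carrier ∧ yz.2 * yz.1⁻¹ ∈ H}

open Classical in
theorem pairCount_eq (H : Subgroup G) [Fintype H] (x y : G) :
    (pairCount H (ConjClasses.mk x) (ConjClasses.mk y) : ℂ) =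
      ∑ s : H, ((classSum ℂ (ConjClasses.mk x⁻¹) * classSum ℂ (ConjClasses.mk y) : Ctr ℂ G) :
        MonoidAlgebra ℂ G).coeff (s : G) := by
  have hinv : ∀ a b : G, ConjClasses.mk a = ConjClasses.mk b →
      ConjClasses.mk a⁻¹ = ConjClasses.mk b⁻¹ := by
    intro a b h
    obtain ⟨c, rfl⟩ := isConj_iff.1 (ConjClasses.mk_eq_mk_iff_isConj.1 h)
    exact ConjClasses.mk_eq_mk_iff_isConj.2 (isConj_iff.2 ⟨c, by group⟩)
  have hswap : ∀ a s : G, ConjClasses.mk (s * a) = ConjClasses.mk (a * s) := fun a s =>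
    ConjClasses.mk_eq_mk_iff_isConj.2 (isConj_iff.2 ⟨a, by group⟩)
  have hterm : ∀ s : H, ((classSum ℂ (ConjClasses.mk x⁻¹) * classSum ℂ (ConjClasses.mk y) :
      Ctr ℂ G) : MonoidAlgebra ℂ G).coeff (s : G) = (Nat.card {a : G // ConjClasses.mk a =
        ConjClasses.mk x⁻¹ ∧ ConjClasses.mk (a⁻¹ * s) = ConjClasses.mk y} : ℂ) := by
    intro s
    rw [Subring.coe_mul, coeff_mul_eq_sum, Nat.card_eq_fintype_card, Fintype.card_subtype,
      ← Finset.sum_boole]
    refine Finset.sum_congr rfl fun a _ => ?_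
    rw [coeff_classSum, coeff_classSum]
    split_ifs <;> simp_all
  rw [Finset.sum_congr rfl fun s _ => hterm s, ← Nat.cast_sum, ← Nat.card_sigma, Nat.cast_inj,
    pairCount]
  refine Nat.card_congr
    { toFun := fun w => ⟨⟨w.1.2 * w.1.1⁻¹, w.2.2.2⟩, w.1.1⁻¹,
        hinv _ _ (ConjClasses.mem_carrier_iff_mk_eq.1 w.2.1), ?_⟩
      invFun := fun w => ⟨(w.2.1⁻¹, (w.1 : G) * w.2.1⁻¹), ?_, ?_, ?_⟩
      left_inv := fun w => ?_
      right_inv := fun w => ?_ }
  · show ConjClasses.mk (w.1.1⁻¹⁻¹ * (w.1.2 * w.1.1⁻¹)) = _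
    rw [← hswap, inv_inv, inv_mul_cancel_right]
    exact ConjClasses.mem_carrier_iff_mk_eq.1 w.2.2.1
  · rw [ConjClasses.mem_carrier_iff_mk_eq]
    simpa using hinv _ _ w.2.2.1
  · rw [ConjClasses.mem_carrier_iff_mk_eq, hswap]
    exact w.2.2.2
  · simp [mul_assoc]
  · exact Subtype.ext (Prod.ext (by simp) (by simp [mul_assoc]))
  · obtain ⟨⟨s, hs⟩, a, ha⟩ := w
    refine Sigma.subtype_ext (Subtype.ext ?_) ?_ <;> simp [mul_assoc]

theorem centralChar_conj (χ : IrrCharacter G) (x : G) :
    conj (Cfsg.centralChar (χ : G → ℂ) x) = Cfsg.centralChar (χ : G → ℂ) x⁻¹ := by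
  obtain ⟨n, hn⟩ := exists_degree (isCharacter_of_isIrr χ.2)
  have hc : Subgroup.centralizer ({x⁻¹} : Set G) = Subgroup.centralizer ({x} : Set G) := by
    ext g
    simp only [Subgroup.mem_centralizer_singleton_iff]
    exact ⟨fun h => (Commute.inv_right_iff.1 (show Commute g x⁻¹ from h)),
      fun h => (show Commute g x from h).inv_right⟩
  rw [Cfsg.centralChar, Cfsg.centralChar, hc, character_inv (isCharacter_of_isIrr χ.2), map_div₀,
    map_mul, Complex.conj_natCast, hn, Complex.conj_natCast]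

theorem pairCount_eq_sum (H : Subgroup G) [Fintype H] (x y : G) (m : IrrCharacter G → ℕ)
    (hm : ∀ χ : IrrCharacter G, ∑ s : H, (χ : G → ℂ) s = (Nat.card H : ℂ) * m χ) :
    (pairCount H (ConjClasses.mk x) (ConjClasses.mk y) : ℂ) * Nat.card G =
      (Nat.card H : ℂ) * (Subgroup.centralizer ({y} : Set G)).index *
        ∑ χ : IrrCharacter G, (m χ : ℂ) * Cfsg.centralChar (χ : G → ℂ) x⁻¹ * (χ : G → ℂ) y := by
  have hG : (Nat.card G : ℂ) ≠ 0 := Characters.natCard_ne_zero
  rw [pairCount_eq, Finset.sum_congr rfl fun s _ => coeff_eq_sum_omega _ _, ← Finset.mul_sum,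
    Finset.sum_comm, mul_comm _ (Nat.card G : ℂ), mul_inv_cancel_left₀ hG, Finset.mul_sum]
  refine Finset.sum_congr rfl fun χ _ => ?_
  rw [← Finset.mul_sum, ← map_sum, hm χ, map_mul, map_mul, omega_classSum, omega_classSum,
    Complex.conj_natCast, Complex.conj_natCast,
    show Cfsg.centralChar (χ : G → ℂ) y = _ / _ from rfl]
  field_simp [irr_one_ne_zero χ.2]

variable {M : Ideal AlgInt} [M.IsPrime]

open Classical in
/-- The theorem. -/
theorem card_blocks_eq_rank (hM : Cfsg.IsPModular p M) (D : Subgroup G) [D.Normal]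
    (hD : IsPGroup p D) (S : Sylow p G) {ι : Type*} [Fintype ι] [DecidableEq ι]
    (K : ι → ConjClasses G) (hKinj : Function.Injective K)
    (hK : ∀ C : ConjClasses G, (∃ i, K i = C) ↔ ∃ x ∈ C.carrier, ¬ p ∣ orderOf x ∧
      IsSylowIn p (Subgroup.centralizer ({x} : Set G)) D) :
    Nat.card {B : Set (IrrCharacter G) // Cfsg.IsPBlock M B ∧ Cfsg.IsDefectGroup p M B D} =
      (Matrix.of fun i j : ι => ((pairCount (S : Subgroup G) (K i) (K j) /
        p ^ ((Nat.card G).factorization p - (Nat.card D).factorization p) : ℕ) : ZMod p)).rank := by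
  have hp : p.Prime := Fact.out
  haveI := charP_res hM
  haveI := Fintype.ofFinite (S : Subgroup G)
  set kB := {B : Set (IrrCharacter G) // Cfsg.IsPBlock M B ∧ Cfsg.IsDefectGroup p M B D}
  haveI : Fintype kB := Fintype.ofFinite _
  choose χB hχB using fun B : kB => isPBlock_nonempty B.2.1
  set a := (Nat.card G).factorization p with ha
  set d := (Nat.card D).factorization p with hd
  have hDcard : Nat.card D = p ^ d := by
    obtain ⟨n, hn⟩ := IsPGroup.iff_card.1 hD
    rw [hd, hn, hp.factorization_pow, Finsupp.single_eq_same]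
  have hda : d ≤ a := by
    have h := Subgroup.card_subgroup_dvd_card D
    rw [hDcard] at h
    exact (hp.pow_dvd_iff_le_factorization Nat.card_pos.ne').1 h
  -- representatives
  choose x hxK hxreg hxS using fun i => (hK (K i)).1 ⟨i, rfl⟩
  have hxmk : ∀ i, ConjClasses.mk (x i) = K i := fun i =>
    ConjClasses.mem_carrier_iff_mk_eq.1 (hxK i)
  have hσ : ∀ i, ∃ i', K i' = ConjClasses.mk (x i)⁻¹ := fun i => by
    refine (hK _).2 ⟨(x i)⁻¹, ConjClasses.mem_carrier_mk, by rw [orderOf_inv]; exact hxreg i, ?_⟩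
    have hc : Subgroup.centralizer ({(x i)⁻¹} : Set G) = Subgroup.centralizer ({x i} : Set G) := by
      ext g
      simp only [Subgroup.mem_centralizer_singleton_iff]
      exact ⟨fun h => (Commute.inv_right_iff.1 (show Commute g (x i)⁻¹ from h)),
        fun h => (show Commute g (x i) from h).inv_right⟩
    rw [hc]
    exact hxS i
  choose σ hσ using hσ
  have hσσ : ∀ i, σ (σ i) = i := by
    intro i
    apply hKinj
    obtain ⟨c, hc⟩ := isConj_iff.1 (ConjClasses.mk_eq_mk_iff_isConj.1
      ((hxmk (σ i)).trans (hσ i)).symm)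
    rw [hσ, ← hxmk i, ConjClasses.mk_eq_mk_iff_isConj, isConj_iff]
    exact ⟨c⁻¹, by rw [← hc]; group⟩
  -- multiplicities
  have hm : ∀ χ : IrrCharacter G, ∃ m : ℕ,
      ∑ s : (S : Subgroup G), (χ : G → ℂ) s = (Nat.card (S : Subgroup G) : ℂ) * m := by
    intro χ
    obtain ⟨m, hm⟩ := classInner_character_irr
      (isCharacter_restrict (S : Subgroup G) (isCharacter_of_isIrr χ.2))
      (isIrr_one (G := (S : Subgroup G)))
    refine ⟨m, ?_⟩
    rw [← hm, Cfsg.classInner, mul_inv_cancel_left₀ Characters.natCard_ne_zero]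
    simp
  choose m hm using hm
  -- the centralizers
  have hr : ∀ j, ∃ r : ℕ, Nat.card (Subgroup.centralizer ({x j} : Set G)) = p ^ d * r ∧ ¬ p ∣ r := by
    intro j
    have hs := (hxS j).card_eq
    rw [hDcard] at hs
    have hfac : (Nat.card (Subgroup.centralizer ({x j} : Set G))).factorization p = d :=
      (Nat.pow_right_injective hp.two_le hs).symm
    refine ⟨_, (Nat.ordProj_mul_ordCompl_eq_self _ p).symm.trans (by rw [hfac]),
      ?_⟩
    rw [← hfac]
    exact Nat.not_dvd_ordCompl hp Nat.card_pos.ne'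
  choose r hr hrp using hr
  -- the entries
  set t := p ^ (a - d) with ht
  have hentry : ∀ i j, (t ∣ pairCount (S : Subgroup G) (K i) (K j)) ∧
      ((pairCount (S : Subgroup G) (K i) (K j) / t : ℕ) : ℂ) * r j =
        ∑ χ : IrrCharacter G, (m χ : ℂ) * Cfsg.centralChar (χ : G → ℂ) (x i)⁻¹ *
          (χ : G → ℂ) (x j) := by
    intro i j
    set N := pairCount (S : Subgroup G) (K i) (K j) with hN
    have h := pairCount_eq_sum (S : Subgroup G) (x i) (x j) m hm
    rw [hxmk, hxmk, ← hN, S.card_eq_multiplicity, ← ha] at h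
    have hidx := Subgroup.index_mul_card (Subgroup.centralizer ({x j} : Set G))
    rw [← hidx, hr j, show p ^ a = t * p ^ d by rw [ht, ← pow_add, Nat.sub_add_cancel hda]] at h
    push_cast at h
    set SS := ∑ χ : IrrCharacter G, (m χ : ℂ) * Cfsg.centralChar (χ : G → ℂ) (x i)⁻¹ *
      (χ : G → ℂ) (x j) with hSS
    have hi0 : ((Subgroup.centralizer ({x j} : Set G)).index : ℂ) ≠ 0 :=
      Nat.cast_ne_zero.2 Subgroup.index_ne_zero_of_finite
    have hp0 : ((p : ℂ) ^ d) ≠ 0 := pow_ne_zero _ (Nat.cast_ne_zero.2 hp.ne_zero)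
    have h' : (N : ℂ) * r j = (t : ℂ) * SS := by
      apply mul_left_cancel₀ (mul_ne_zero hi0 hp0)
      linear_combination h
    have hint : IsIntegral ℤ SS := IsIntegral.sum _ fun χ _ =>
      (((isIntegral_algebraMap (R := ℤ) (A := ℂ) (x := (m χ : ℤ))).mul
        (isIntegral_centralChar χ _)).mul (character_isIntegral (isCharacter_of_isIrr χ.2) _))
        |> fun h => by simpa using h
    have ht0 : (t : ℂ) ≠ 0 := Nat.cast_ne_zero.2 (pow_ne_zero _ hp.ne_zero)
    have hrat : SS = (((N * r j : ℕ) : ℚ) / (t : ℚ) : ℚ) := by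
      push_cast
      rw [h']
      field_simp
    rw [hrat] at hint
    have hint' : IsIntegral ℤ (((N * r j : ℕ) : ℚ) / (t : ℚ)) :=
      (isIntegral_algebraMap_iff (algebraMap ℚ ℂ).injective).1 hint
    obtain ⟨z, hz⟩ := IsIntegrallyClosed.isIntegral_iff.1 hint'
    have ht0' : (t : ℚ) ≠ 0 := Nat.cast_ne_zero.2 (pow_ne_zero _ hp.ne_zero)
    rw [eq_div_iff ht0'] at hz
    have hdvd : t ∣ N * r j := by
      rw [← Int.natCast_dvd_natCast]
      refine ⟨z, ?_⟩
      rw [mul_comm (t : ℤ)]
      simp only [algebraMap_int_eq, eq_intCast] at hz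
      exact_mod_cast hz.symm
    have htN : t ∣ N := (Nat.Coprime.pow_left _ (hp.coprime_iff_not_dvd.2 (hrp j))).dvd_of_dvd_mul_right hdvd
    refine ⟨htN, ?_⟩
    obtain ⟨q, hq⟩ := htN
    rw [hq, Nat.mul_div_cancel_left _ (pow_pos hp.pos _)]
    apply mul_left_cancel₀ ht0
    rw [← h', hq]
    push_cast
    ring
  -- degrees in blocks with defect group `D`
  have hdeg : ∀ (B : kB), ∀ χ ∈ B.1, ∃ w : ℕ,
      Cfsg.charDegree (χ : G → ℂ) * p ^ d = p ^ a * w := by
    intro B χ hχ
    have h1 := sInf_degree_eq hM B.2.1 B.2.2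
    have h2 : sInf ((fun χ : IrrCharacter G => (Cfsg.charDegree (χ : G → ℂ)).factorization p) '' B.1)
        ≤ (Cfsg.charDegree (χ : G → ℂ)).factorization p := Nat.sInf_le ⟨χ, hχ, rfl⟩
    have h3 : p ^ a ∣ Cfsg.charDegree (χ : G → ℂ) * p ^ d := by
      refine (pow_dvd_pow p (show a ≤ (Cfsg.charDegree (χ : G → ℂ)).factorization p + d by omega)).trans ?_
      rw [pow_add]
      exact Nat.mul_dvd_mul_right (Nat.ordProj_dvd _ _) _
    exact h3
  -- local integers
  let wx : IrrCharacter G → G → localRing M := fun χ g =>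
    ⟨(χ : G → ℂ) g, memLocalRing_of_isIntegral (character_isIntegral (isCharacter_of_isIrr χ.2) g)⟩
  let om : IrrCharacter G → G → localRing M := fun χ g =>
    ⟨Cfsg.centralChar (χ : G → ℂ) g, memLocalRing_centralChar χ g⟩
  set g' := Nat.card G / p ^ a with hg'
  have hg'p : ¬ p ∣ g' := Nat.not_dvd_ordCompl hp Nat.card_pos.ne'
  have hG : (Nat.card G : ℂ) = (p : ℂ) ^ a * (g' : ℂ) := by
    rw [hg']
    exact_mod_cast (Nat.ordProj_mul_ordCompl_eq_self (Nat.card G) p).symm
  have hqmem : ∀ (B : kB), ∀ χ ∈ B.1,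
      Cfsg.MemLocalRing M ((p : ℂ) ^ d * (χ : G → ℂ) 1 * m χ / Nat.card G) := by
    intro B χ hχ
    obtain ⟨w, hw⟩ := hdeg B χ hχ
    have hw' : (χ : G → ℂ) 1 * (p : ℂ) ^ d = (p : ℂ) ^ a * w := by
      rw [← Blocks.charDegree_cast]; exact_mod_cast hw
    have hg0 : (g' : ℂ) ≠ 0 := Nat.cast_ne_zero.2 fun h => hg'p (h ▸ dvd_zero p)
    have hp0 : ((p : ℂ) ^ a) ≠ 0 := pow_ne_zero _ (Nat.cast_ne_zero.2 hp.ne_zero)
    rw [show (p : ℂ) ^ d * (χ : G → ℂ) 1 * m χ / Nat.card G = ((w * m χ : ℕ) : ℂ) * (g' : ℂ)⁻¹ by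
      rw [mul_comm ((p : ℂ) ^ d), hw', hG]; push_cast; field_simp]
    exact Subring.mul_mem (localRing M) (memLocalRing_natCast _)
      (memLocalRing_natCast_inv hM hg'p)
  let q : IrrCharacter G → localRing M := fun χ =>
    if h : Cfsg.MemLocalRing M ((p : ℂ) ^ d * (χ : G → ℂ) 1 * m χ / Nat.card G) then ⟨_, h⟩ else 0
  have hq : ∀ (B : kB), ∀ χ ∈ B.1,
      ((q χ : localRing M) : ℂ) = (p : ℂ) ^ d * (χ : G → ℂ) 1 * m χ / Nat.card G := by
    intro B χ hχ
    simp only [q, dif_pos (hqmem B χ hχ)]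
  set c : kB → Res M := fun B => ∑ χ : IrrCharacter G, if χ ∈ B.1 then red M (q χ) else 0
  -- the units
  have hc : ∀ B : kB, c B ≠ 0 := by
    intro B
    have hS : ∀ s : (S : Subgroup G), s ≠ 1 → Cfsg.blockCoeff B.1 (s : G) = 0 := by
      intro s hs
      refine blockCoeff_eq_zero_of_singular hM (isBlockUnion_of_isPBlock B.2.1) ?_
      obtain ⟨k, hk⟩ := IsPGroup.iff_orderOf.1 S.2 s
      rw [Subgroup.orderOf_coe, hk]
      refine dvd_pow_self p fun hk0 => hs ?_
      rw [hk0, pow_zero, orderOf_eq_one_iff] at hk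
      exact hk
    obtain ⟨N, hN⟩ : ∃ N, (∑ᶠ χ ∈ B.1, Cfsg.charDegree (χ : G → ℂ) ^ 2) = p ^ (2 * a - d) * N ∧
        ¬ p ∣ N := by
      have h4491 := Cfsg.Agent.S4491.result p M hM B.1 B.2.1
      rw [blockDefect_eq hM B.2.1 B.2.2, ← hd, ← ha] at h4491
      refine ⟨_, (Nat.ordProj_mul_ordCompl_eq_self _ p).symm.trans (by rw [h4491]),
        Nat.not_dvd_ordCompl hp ?_⟩
      rw [finsum_irr_mem]
      refine (Finset.sum_pos' (fun χ _ => Nat.zero_le _) ⟨χB B, Finset.mem_univ _, ?_⟩).ne'
      rw [if_pos (hχB B)]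
      obtain ⟨n, hn, hn'⟩ := exists_degree_pos (χB B).2
      simp [Cfsg.charDegree, hn', hn]
    have hval : ∑ χ : IrrCharacter G, (if χ ∈ B.1 then ((q χ : localRing M) : ℂ) else 0) =
        (N : ℂ) * (g' : ℂ)⁻¹ := by
      have hScard : (Nat.card (S : Subgroup G) : ℂ) = (p : ℂ) ^ a := by
        rw [S.card_eq_multiplicity, ← ha]; push_cast; rfl
      have hG0 : (Nat.card G : ℂ) ≠ 0 := Characters.natCard_ne_zero
      have hp0 : (p : ℂ) ≠ 0 := Nat.cast_ne_zero.2 hp.ne_zero
      have hg0 : (g' : ℂ) ≠ 0 := Nat.cast_ne_zero.2 fun h => hg'p (h ▸ dvd_zero p)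
      have h1 : ∑ χ : IrrCharacter G, (if χ ∈ B.1 then (χ : G → ℂ) 1 * m χ else 0) * (p : ℂ) ^ a =
          ∑ s : (S : Subgroup G), (Nat.card G : ℂ) * Cfsg.blockCoeff B.1 (s : G) := by
        simp only [blockCoeff_eq_sum, mul_inv_cancel_left₀ hG0]
        rw [Finset.sum_comm]
        refine Finset.sum_congr rfl fun χ _ => ?_
        split_ifs
        · rw [← Finset.mul_sum, ← map_sum, hm χ, hScard, map_mul, map_pow, Complex.conj_natCast,
            Complex.conj_natCast]
          ring
        · simp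
      rw [Finset.sum_eq_single (1 : (S : Subgroup G)) (fun s _ hs => by rw [hS s hs, mul_zero])
        (by simp), OneMemClass.coe_one] at h1
      have h2 : (Nat.card G : ℂ) * Cfsg.blockCoeff B.1 1 = (p : ℂ) ^ (2 * a - d) * N := by
        rw [blockCoeff_eq_sum, mul_inv_cancel_left₀ hG0]
        calc _ = ((∑ᶠ χ ∈ B.1, Cfsg.charDegree (χ : G → ℂ) ^ 2 : ℕ) : ℂ) := by
              rw [finsum_irr_mem, Nat.cast_sum]
              refine Finset.sum_congr rfl fun χ _ => ?_
              split_ifs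
              · rw [Blocks.conj_one_irr, ← Blocks.charDegree_cast]; push_cast; ring
              · simp
          _ = _ := by rw [hN.1]; push_cast; ring
      rw [h2] at h1
      have h3 : ∑ χ : IrrCharacter G, (if χ ∈ B.1 then ((q χ : localRing M) : ℂ) else 0) =
          (p : ℂ) ^ d / ((Nat.card G : ℂ) * (p : ℂ) ^ a) *
            ∑ χ : IrrCharacter G, (if χ ∈ B.1 then (χ : G → ℂ) 1 * m χ else 0) * (p : ℂ) ^ a := by
        rw [Finset.mul_sum]
        refine Finset.sum_congr rfl fun χ _ => ?_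
        split_ifs with h
        · rw [hq B χ h]; field_simp
        · simp
      rw [h3, h1, hG]
      have hexp : (p : ℂ) ^ d * (p : ℂ) ^ (2 * a - d) = (p : ℂ) ^ a * (p : ℂ) ^ a := by
        rw [← pow_add, ← pow_add]; congr 1; omega
      field_simp
      linear_combination (N : ℂ) * hexp
    intro h0
    have hmem : Cfsg.MemLocalRing M ((N : ℂ) * (g' : ℂ)⁻¹) :=
      Subring.mul_mem (localRing M) (memLocalRing_natCast _) (memLocalRing_natCast_inv hM hg'p)
    have hsum : (∑ χ : IrrCharacter G, if χ ∈ B.1 then q χ else 0) = ⟨_, hmem⟩ := Subtype.ext (by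
      rw [AddSubmonoidClass.coe_finsetSum]
      refine Eq.trans ?_ hval
      exact Finset.sum_congr rfl fun χ _ => by split_ifs <;> simp)
    have hred : red M (⟨_, hmem⟩ : localRing M) = 0 := by
      rw [← hsum, map_sum, ← h0]
      exact Finset.sum_congr rfl fun χ _ => by split_ifs <;> simp
    have hu : (⟨_, hmem⟩ : localRing M) * (g' : localRing M) =
        (N : localRing M) := Subtype.ext (by
      have hg0 : (g' : ℂ) ≠ 0 := Nat.cast_ne_zero.2 fun h => hg'p (h ▸ dvd_zero p)
      simp only [Subring.coe_mul, Subring.coe_natCast]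
      field_simp)
    have := congrArg (red M) hu
    rw [map_mul, hred, zero_mul, map_natCast] at this
    exact hN.2 ((CharP.cast_eq_zero_iff (Res M) p N).1 this.symm)
  -- blocks at the classes
  have hblock : ∀ χ : IrrCharacter G, ∀ i, omegaBar M χ (classSum _ (ConjClasses.mk (x i)⁻¹)) ≠ 0 →
      Cfsg.IsDefectGroup p M (Cfsg.blockOf M (χ : G → ℂ)) D := by
    intro χ i hne
    have hB := isPBlock_blockOf (M := M) χ
    obtain ⟨E, hE⟩ := exists_isDefectGroup (p := p) hB
    have hS : IsSylowIn p (Subgroup.centralizer ({(x i)⁻¹} : Set G)) D := by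
      have hc : Subgroup.centralizer ({(x i)⁻¹} : Set G) = Subgroup.centralizer ({x i} : Set G) := by
        ext g
        simp only [Subgroup.mem_centralizer_singleton_iff]
        exact ⟨fun h => (Commute.inv_right_iff.1 (show Commute g (x i)⁻¹ from h)),
          fun h => (show Commute g (x i) from h).inv_right⟩
      rw [hc]; exact hxS i
    obtain ⟨y, hy⟩ := IsDefectGroup.exists_conj_le hM hB hE (mem_blockOf_self χ) hne hS
    have hle := IsDefectGroup.le_of_normal hM hB hE D hD
    have heq : D = E := Subgroup.eq_of_le_of_card_ge hle (by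
      rw [← BlockPairs.card_cj y E]; exact Subgroup.card_le_of_le hy)
    rwa [heq]
  -- the matrix
  let W : Matrix ι kB (Res M) := Matrix.of fun i B =>
    omegaBar M (χB B) (classSum _ (ConjClasses.mk (x i)⁻¹))
  let V : Matrix kB ι (Res M) := Matrix.of fun B j =>
    omegaBar M (χB B) (classSum _ (ConjClasses.mk (x j)))
  have hA : (Matrix.of fun i j : ι => ((pairCount (S : Subgroup G) (K i) (K j) / t : ℕ) : ZMod p)).map
      (ZMod.castHom dvd_rfl (Res M)) = W * Matrix.diagonal c * V := by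
    ext i j
    rw [Matrix.map_apply, Matrix.of_apply, map_natCast, Matrix.mul_apply]
    obtain ⟨-, he⟩ := hentry i j
    have hL : (((pairCount (S : Subgroup G) (K i) (K j) / t : ℕ) : localRing M) * (r j : localRing M)) =
        ∑ χ : IrrCharacter G, (m χ : localRing M) * om χ (x i)⁻¹ * wx χ (x j) := Subtype.ext (by
      rw [AddSubmonoidClass.coe_finsetSum]
      simpa [om, wx] using he)
    have hR := congrArg (red M) hL
    simp only [map_mul, map_sum, map_natCast] at hR
    have hr0 : ((r j : ℕ) : Res M) ≠ 0 := fun h => hrp j ((CharP.cast_eq_zero_iff (Res M) p _).1 h)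
    apply mul_right_cancel₀ hr0
    rw [hR]
    have hW : ∀ (χ : IrrCharacter G) (g : G),
        red M (om χ g) = omegaBar M χ (classSum _ (ConjClasses.mk g)) := fun χ g =>
      (omegaBar_classSum χ g).symm
    have hterm : ∀ χ : IrrCharacter G, ((m χ : ℕ) : Res M) * red M (om χ (x i)⁻¹) * red M (wx χ (x j)) =
        ∑ B : kB, (if χ ∈ B.1 then red M (q χ) else 0) * W i B * V B j * (r j : Res M) := by
      intro χ
      by_cases hin : ∃ B : kB, χ ∈ B.1
      · obtain ⟨B, hB⟩ := hin
        rw [Finset.sum_eq_single B ?_ (by simp)]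
        · rw [if_pos hB]
          have hsame : omegaBar M χ = omegaBar M (χB B) := by
            refine (sameBlock_iff χ (χB B)).1 ?_
            have h := hχB B
            rwa [eq_blockOf_of_mem B.2.1 hB] at h
          simp only [W, V, Matrix.of_apply]
          rw [← hsame, ← hW, ← hW]
          rw [← map_natCast (red M) (r j), ← map_natCast (red M) (m χ), ← map_mul, ← map_mul,
            ← map_mul, ← map_mul, ← map_mul]
          congr 1
          refine Subtype.ext ?_
          simp only [Subring.coe_mul, Subring.coe_natCast, hq B χ hB, om, wx]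
          rw [show Cfsg.centralChar (χ : G → ℂ) (x j) =
            ((Subgroup.centralizer ({x j} : Set G)).index : ℂ) * (χ : G → ℂ) (x j) / (χ : G → ℂ) 1
              from rfl]
          have hidx : (Nat.card G : ℂ) =
              ((Subgroup.centralizer ({x j} : Set G)).index : ℂ) * ((p : ℂ) ^ d * r j) := by
            rw [← Subgroup.index_mul_card (Subgroup.centralizer ({x j} : Set G)), hr j]
            push_cast; rfl
          have hi0 : ((Subgroup.centralizer ({x j} : Set G)).index : ℂ) ≠ 0 :=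
            Nat.cast_ne_zero.2 Subgroup.index_ne_zero_of_finite
          have hr0' : (r j : ℂ) ≠ 0 := Nat.cast_ne_zero.2 fun h => hrp j (h ▸ dvd_zero p)
          have hp0 : ((p : ℂ) ^ d) ≠ 0 := pow_ne_zero _ (Nat.cast_ne_zero.2 hp.ne_zero)
          rw [hidx]
          field_simp [irr_one_ne_zero χ.2]
        · intro B' _ hne
          rw [if_neg fun h => hne (Subtype.ext (isPBlock_eq_of_mem B'.2.1 B.2.1 h hB))]
          simp
      · rw [Finset.sum_eq_zero fun B _ => by rw [if_neg fun h => hin ⟨B, h⟩]; simp]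
        have h0 : red M (om χ (x i)⁻¹) = 0 := by
          rw [hW]
          by_contra h
          exact hin ⟨⟨_, isPBlock_blockOf χ, hblock χ i h⟩, mem_blockOf_self χ⟩
        rw [h0, mul_zero, zero_mul]
    rw [Finset.sum_congr rfl fun χ _ => hterm χ, Finset.sum_comm, Finset.sum_mul]
    refine Finset.sum_congr rfl fun B _ => ?_
    rw [Matrix.mul_diagonal, Finset.mul_sum]
    simp only [Finset.sum_mul]
    exact Finset.sum_congr rfl fun χ _ => by ring
  -- inverses
  haveI := Fintype.ofFinite (ConjClasses G)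
  let e : kB → Ctr (Res M) G := fun B => idemBar M B.1 (isBlockUnion_of_isPBlock B.2.1)
  let Q : Matrix ι kB (Res M) := Matrix.of fun i B => classCoeff (e B) (K i)
  have hrange : ∀ (B : kB) (C : ConjClasses G), classCoeff (e B) C ≠ 0 → ∃ i, K i = C := by
    intro B C hne
    obtain ⟨g, rfl⟩ := ConjClasses.mk_surjective C
    rw [classCoeff_mk] at hne
    have hg : g ∈ Subgroup.centralizer (D : Set G) := by
      by_contra h
      exact hne (coeff_idemBar_eq_zero_of_notMem_centralizer hM _ D hD h)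
    have hreg : ¬ p ∣ orderOf g := fun h => hne (by
      rw [coeff_idemBar, ← map_zero (red M)]
      congr 1
      exact Subtype.ext (blockCoeff_eq_zero_of_singular hM (isBlockUnion_of_isPBlock B.2.1) h))
    obtain ⟨E, hE, hDE⟩ := exists_isSylowIn_ge hD (le_centralizer_singleton_iff.2 hg)
    obtain ⟨y, hy⟩ := IsDefectGroup.domBy hM B.2.1 B.2.2 E hE.2.1 g
      (le_centralizer_singleton_iff.1 hE.1) hne
    have heq : D = E := Subgroup.eq_of_le_of_card_ge hDE (by
      rw [← BlockPairs.card_cj y E]; exact Subgroup.card_le_of_le hy)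
    exact (hK _).2 ⟨g, ConjClasses.mem_carrier_mk, hreg, heq ▸ hE⟩
  have hVQ : V * Q = 1 := by
    ext B B'
    have h := omegaBar_idemBar B'.1 (isBlockUnion_of_isPBlock B'.2.1) (χB B) (M := M)
    rw [eq_sum_classSum (idemBar M B'.1 (isBlockUnion_of_isPBlock B'.2.1)), map_sum] at h
    rw [← Finset.sum_subset (Finset.subset_univ (Finset.univ.image K)) fun C _ hC => ?_,
      Finset.sum_image fun i _ i' _ e => hKinj e] at h
    · rw [Matrix.mul_apply, Matrix.one_apply]
      refine (Eq.trans (Finset.sum_congr rfl fun i _ => ?_) h).trans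
        (if_congr ⟨fun hm' => Subtype.ext (isPBlock_eq_of_mem B.2.1 B'.2.1 (hχB B) hm'),
          fun e => e ▸ hχB B⟩ rfl rfl)
      rw [map_mul, omegaBar_scalar, ← hxmk i, mul_comm]
      simp only [V, Q, e, Matrix.of_apply, hxmk]
    · rw [map_mul, omegaBar_scalar]
      refine mul_eq_zero_of_left ?_ _
      by_contra hne
      obtain ⟨i, hi⟩ := hrange B' C hne
      exact hC (Finset.mem_image.2 ⟨i, Finset.mem_univ _, hi⟩)
  let P : Matrix kB ι (Res M) := Matrix.of fun B i => Q (σ i) B
  have hPW : P * W = 1 := by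
    ext B B'
    have h := congrFun (congrFun hVQ B') B
    rw [Matrix.one_apply] at h ⊢
    rw [Matrix.mul_apply] at h ⊢
    refine (Eq.trans ?_ h).trans (if_congr eq_comm rfl rfl)
    refine Fintype.sum_equiv ⟨σ, σ, hσσ, hσσ⟩ _ _ fun i => ?_
    simp only [P, W, V, Matrix.of_apply, Equiv.coe_fn_mk]
    rw [← hσ i, ← hxmk (σ i), mul_comm]
  rw [← rank_map_eq (ZMod.castHom dvd_rfl (Res M)), hA, rank_eq_of_inverses W V c hc P Q hPW hVQ,
    Nat.card_eq_fintype_card]

end CfsgLib.DefectRank
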